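import Groth.Agent.Ega43.LimitDescendImm
import Groth.Agent.Ega43.LimUnivInj
import Groth.Agent.Ega43.LimCompare
import Groth.Agent.Ega43.LimitDescendCompare
import Groth.Agent.S2074
import Groth.Agent.S2583
import Groth.Agent.S2592

/-!
# `DescendsLim` for separated, surjective, finite, affine, radicial, quasi-finite, proper, quasi-affine morphisms
-/

set_option autoImplicit false
universe u

open CategoryTheory CategoryTheory.Limits AlgebraicGeometry

namespace K286.Desc

open Groth.Agent Ega43.LimitDescend Ega43.LimitDescendIso Ega43.LimitDescendCompare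

theorem descendsLim_isSeparated : DescendsLim @IsSeparated.{u} := by
  rw [IsSeparated.isSeparated_eq_diagonal_isClosedImmersion]
  exact descendsLim_diagonal @Ega43.LimitDescendClosed.descendsLim_isClosedImmersion

theorem descendsLim_surjective : DescendsLim @Surjective.{u} :=
  descendsLim_of_descends @Ega43.LimSurj.descends_surjective

theorem descendsLim_isFinite : DescendsLim @IsFinite.{u} :=
  have := MorphismProperty.IsStableUnderBaseChange.respectsIso (P := @IsFinite.{u})
  descendsLim_of_descends @Ega43.LimCompare.descends_isFinite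

theorem descendsLim_isAffineHom : DescendsLim @IsAffineHom.{u} :=
  have := MorphismProperty.IsStableUnderBaseChange.respectsIso (P := @IsAffineHom.{u})
  descendsLim_of_descends @Ega43.LimCompare.descends_isAffineHom

theorem descendsLim_universallyInjective : DescendsLim @UniversallyInjective.{u} :=
  have := MorphismProperty.IsStableUnderBaseChange.respectsIso (P := @UniversallyInjective.{u})
  descendsLim_of_descends @Ega43.LimUnivInj.descends_universallyInjective

theorem descendsLim_locallyQuasiFinite : DescendsLim @LocallyQuasiFinite.{u} := by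
  have := MorphismProperty.IsStableUnderBaseChange.respectsIso (P := @LocallyQuasiFinite.{u})
  have h : Ega43.LimDesc.Descends @LocallyQuasiFinite.{u} :=
    @Ega43.LimCompare.descends_of_descendsOne @LocallyOfFiniteType
      @LocallyQuasiFinite this (fun f _ ↦ (inferInstance : LocallyOfFiniteType f))
      @S2583.descendsOne_locallyQuasiFinite
  exact @descendsLim_of_descends _ this @h

/-- Quasi-finite morphisms, with the finiteness conditions. -/
def qf : MorphismProperty Scheme.{u} := fun _ _ g =>
  LocallyOfFiniteType g ∧ QuasiCompact g ∧ LocallyQuasiFinite g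

instance : qf.{u}.IsStableUnderBaseChange := by
  let P₁ : MorphismProperty Scheme.{u} := @LocallyOfFiniteType
  let P₂ : MorphismProperty Scheme.{u} := @QuasiCompact
  let P₃ : MorphismProperty Scheme.{u} := @LocallyQuasiFinite
  have h₁ : P₁.IsStableUnderBaseChange := inferInstanceAs (MorphismProperty.IsStableUnderBaseChange @LocallyOfFiniteType)
  have h₂ : P₂.IsStableUnderBaseChange := inferInstanceAs (MorphismProperty.IsStableUnderBaseChange @QuasiCompact)
  have h₃ : P₃.IsStableUnderBaseChange := inferInstanceAs (MorphismProperty.IsStableUnderBaseChange @LocallyQuasiFinite)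
  exact inferInstanceAs (P₁ ⊓ (P₂ ⊓ P₃)).IsStableUnderBaseChange

theorem descendsLim_qf : DescendsLim qf.{u} := by
  intro J _ _ E c hc _ _ _ B X₀ t ht f₀ _ _ _ p hp X q f hX hf
  obtain ⟨j, hj⟩ := descendsLim_locallyQuasiFinite E c hc t ht f₀ p hp q f hX hf.2.2
  exact ⟨j, inferInstance, inferInstance, hj⟩

theorem descendsLim_isProper : DescendsLim @IsProper.{u} := by
  have := MorphismProperty.IsStableUnderBaseChange.respectsIso (P := @IsProper.{u})
  have h : Ega43.LimDesc.Descends @IsProper.{u} := ?_
  · exact @descendsLim_of_descends _ this @h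
  intro I _ _ D c hc _ _ _ i₀ X₀ f₀ _ _ _ X q f hX hf
  have : CompactSpace X₀ := QuasiCompact.compactSpace_of_compactSpace f₀
  have : QuasiSeparatedSpace X₀ := quasiSeparatedSpace_of_quasiSeparated f₀
  obtain ⟨i, φ, Xi, Yi, fi, gi, pY, pX, h1, h2, h3⟩ := S2074.result D c hc i₀ f₀ (𝟙 _) f (𝟙 _) (c.π.app i₀) q
    (IsPullback.of_vert_isIso ⟨by simp⟩) hX
  have h4 := h2.paste_vert h1
  have : IsIso gi := h1.isIso_snd_of_isIso
  rw [Category.comp_id] at h4
  exact ⟨i, φ, Xi, pX, fi ≫ gi, h4, (MorphismProperty.cancel_right_of_respectsIso @IsProper fi gi).2 h3⟩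

theorem descendsLim_isQuasiAffine :
    DescendsLim (fun (X Y : Scheme.{u}) (f : X ⟶ Y) ↦ Mor2.IsQuasiAffine f) := by
  have := Ega43.QuasiAffineLocal.respectsIso.{u}
  have h : Ega43.LimDesc.Descends (fun (X Y : Scheme.{u}) (f : X ⟶ Y) ↦ Mor2.IsQuasiAffine f) :=
    @Ega43.LimCompare.descends_of_descendsOne ⊤ _ this (fun _ _ => trivial)
      @S2592.descendsOne_isQuasiAffine
  exact @descendsLim_of_descends _ this @h

end K286.Desc
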