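import Groth.Prelude.Def_W4ega4s0809p4Pair
import Groth.Agent.Ega2.GeoStage
import Groth.Agent.Etcore.FGLim
import Groth.Agent.S2395
import Mathlib.AlgebraicGeometry.PullbackCarrier
import Mathlib.AlgebraicGeometry.ResidueField
import Mathlib.AlgebraicGeometry.FunctionField

/-!
# Ind-constructibility of "there is, after an extension of the base field, a morphism with property `Q`"

`Rel Q gX gY`: for some one-point integral `T' ⟶ T` and cartesian squares `X' = X ×_T T'`, `Y' = Y ×_T T'`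
there is a `T'`-morphism `X' ⟶ Y'` with property `Q`.

`isFieldStablePair_rel`: field stable, for `Q` stable under base change.
`mem_locusPair_of_hom`: if the base changes of `X`, `Y` to an `S`-scheme `W` have a `W`-morphism with property `Q`
then the image of `W` lies in the locus.
`isIndConsPair_rel`: the relation is an ind-constructible property of pairs, if moreover `Q` descends to
a stage along limits.
-/

set_option autoImplicit false
universe u

open CategoryTheory CategoryTheory.Limits AlgebraicGeometry Opposite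

namespace K286.ExistsBC

open Groth.Agent

/-- There is a morphism with property `Q` after some extension of the base field. -/
def Rel (Q : MorphismProperty Scheme.{u}) :
    ∀ ⦃X Y T : Scheme.{u}⦄, (X ⟶ T) → (Y ⟶ T) → Prop :=
  fun X Y T gX gY => ∃ (T' X' Y' : Scheme.{u}) (h : T' ⟶ T) (gX' : X' ⟶ T') (gY' : Y' ⟶ T')
    (eX : X' ⟶ X) (eY : Y' ⟶ Y), IsIntegral T' ∧ Subsingleton ↥T' ∧
      IsPullback eX gX' gX h ∧ IsPullback eY gY' gY h ∧
        ∃ g : X' ⟶ Y', g ≫ gY' = gX' ∧ Q g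

variable {Q : MorphismProperty Scheme.{u}}

/-- Base change of a morphism along cartesian squares. -/
lemma exists_hom_of_squares [Q.IsStableUnderBaseChange] {X Y T X' Y' T' : Scheme.{u}}
    {gX : X ⟶ T} {gY : Y ⟶ T} {a : T' ⟶ T} {gX' : X' ⟶ T'} {gY' : Y' ⟶ T'} {pX : X' ⟶ X} {pY : Y' ⟶ Y}
    (hX : IsPullback pX gX' gX a) (hY : IsPullback pY gY' gY a) (g : X ⟶ Y) (hg : g ≫ gY = gX)
    (hQ : Q g) : ∃ g' : X' ⟶ Y', g' ≫ gY' = gX' ∧ IsPullback pX g' g pY ∧ Q g' := by
  have hw : (pX ≫ g) ≫ gY = gX' ≫ a := by rw [Category.assoc, hg, hX.w]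
  have h2 : hY.lift (pX ≫ g) gX' hw ≫ gY' = gX' := hY.lift_snd _ _ _
  have h1 : IsPullback pX (hY.lift (pX ≫ g) gX' hw) g pY := by
    refine IsPullback.of_bot (v₂₁ := gY') (v₂₂ := gY) (h₃₁ := a) ?_ (hY.lift_fst _ _ _).symm hY
    rw [h2, hg]
    exact hX
  exact ⟨_, h2, h1, MorphismProperty.of_isPullback h1 hQ⟩

instance {X : Scheme.{u}} (x : X) : Subsingleton ↥(Spec (X.residueField x)) :=
  inferInstanceAs (Subsingleton (PrimeSpectrum (X.residueField x)))

/-- Morphisms of spectra of residue fields: if two morphisms `h₁ : T₁ ⟶ T` and `h : T' ⟶ T` have a nonempty fibre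
product and there is a morphism with property `Q` over `T₁`, then the relation holds over `T'`. -/
lemma rel_of_nonempty [Q.IsStableUnderBaseChange] {X Y T X₁ Y₁ T₁ X' Y' T' : Scheme.{u}}
    {gX : X ⟶ T} {gY : Y ⟶ T} {h₁ : T₁ ⟶ T} {gX₁ : X₁ ⟶ T₁} {gY₁ : Y₁ ⟶ T₁} {eX₁ : X₁ ⟶ X} {eY₁ : Y₁ ⟶ Y}
    (hX₁ : IsPullback eX₁ gX₁ gX h₁) (hY₁ : IsPullback eY₁ gY₁ gY h₁)
    {h : T' ⟶ T} {gX' : X' ⟶ T'} {gY' : Y' ⟶ T'} {eX : X' ⟶ X} {eY : Y' ⟶ Y}
    (hX : IsPullback eX gX' gX h) (hY : IsPullback eY gY' gY h)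
    (g : X₁ ⟶ Y₁) (hg : g ≫ gY₁ = gX₁) (hQ : Q g) {T₂ : Scheme.{u}} [IsIntegral T₂] [Subsingleton T₂]
    (a : T₂ ⟶ T₁) (b : T₂ ⟶ T') (hab : a ≫ h₁ = b ≫ h) :
    Rel Q gX' gY' := by
  have hX'' := IsPullback.of_hasPullback gX' b
  have hY'' := IsPullback.of_hasPullback gY' b
  have key : ∀ {Z Z₁ Z' : Scheme.{u}} {gZ : Z ⟶ T} {gZ₁ : Z₁ ⟶ T₁} {eZ₁ : Z₁ ⟶ Z} {gZ' : Z' ⟶ T'}
      {eZ : Z' ⟶ Z}, IsPullback eZ₁ gZ₁ gZ h₁ → IsPullback eZ gZ' gZ h →
      ∃ l : pullback gZ' b ⟶ Z₁, IsPullback l (pullback.snd gZ' b) gZ₁ a := by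
    intro Z Z₁ Z' gZ gZ₁ eZ₁ gZ' eZ hZ₁ hZ
    have h1 : IsPullback (pullback.fst gZ' b ≫ eZ) (pullback.snd gZ' b) gZ (b ≫ h) :=
      (IsPullback.of_hasPullback gZ' b).paste_horiz hZ
    have hw : (pullback.fst gZ' b ≫ eZ) ≫ gZ = (pullback.snd gZ' b ≫ a) ≫ h₁ := by
      rw [h1.w, Category.assoc, hab]
    refine ⟨hZ₁.lift (pullback.fst gZ' b ≫ eZ) (pullback.snd gZ' b ≫ a) hw, ?_⟩
    refine IsPullback.of_right (h₁₂ := eZ₁) (v₁₃ := gZ) (h₂₂ := h₁) ?_ (hZ₁.lift_snd _ _ _) hZ₁
    rw [hZ₁.lift_fst, hab]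
    exact h1
  obtain ⟨lX, hlX⟩ := key hX₁ hX
  obtain ⟨lY, hlY⟩ := key hY₁ hY
  obtain ⟨g', hg', -, hQ'⟩ := exists_hom_of_squares hlX hlY g hg hQ
  exact ⟨_, _, _, b, pullback.snd gX' b, pullback.snd gY' b, pullback.fst gX' b, pullback.fst gY' b,
    inferInstance, inferInstance, hX'', hY'', g', hg', hQ'⟩

/-- The relation is invariant under extension of the base field. -/
theorem isFieldStablePair_rel [Q.IsStableUnderBaseChange] : ConsPropPair.IsFieldStablePair (Rel Q) := by
  intro X X' Y Y' T T' gX gY gX' gY' eX eY h _ _ _ _ _ _ _ _ hX hY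
  constructor
  · rintro ⟨T₁, X₁, Y₁, h₁, gX₁, gY₁, eX₁, eY₁, _, _, hX₁, hY₁, g, hg, hQ⟩
    obtain ⟨t₁⟩ : Nonempty T₁ := inferInstance
    obtain ⟨t'⟩ : Nonempty T' := inferInstance
    obtain ⟨z, -, -⟩ := Scheme.Pullback.exists_preimage_pullback (f := h₁) (g := h) t₁ t'
      (Subsingleton.elim _ _)
    exact rel_of_nonempty hX₁ hY₁ hX hY g hg hQ (T₂ := Spec ((pullback h₁ h).residueField z))
      ((pullback h₁ h).fromSpecResidueField z ≫ pullback.fst h₁ h)
      ((pullback h₁ h).fromSpecResidueField z ≫ pullback.snd h₁ h)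
      (by rw [Category.assoc, Category.assoc, pullback.condition])
  · rintro ⟨T₁, X₁, Y₁, h₁, gX₁, gY₁, eX₁, eY₁, i₁, i₂, hX₁, hY₁, g, hg, hQ⟩
    exact ⟨T₁, X₁, Y₁, h₁ ≫ h, gX₁, gY₁, eX₁ ≫ eX, eY₁ ≫ eY, i₁, i₂, hX₁.paste_horiz hX,
      hY₁.paste_horiz hY, g, hg, hQ⟩

/-- The square of a fibre. -/
lemma isPullback_fiber {X S : Scheme.{u}} (u : X ⟶ S) (s : S) :
    IsPullback (u.fiberι s) (u.fiberToSpecResidueField s) u (S.fromSpecResidueField s) :=
  IsPullback.of_hasPullback _ _

/-- If over an `S`-scheme `W` there is a `W`-morphism `X_W ⟶ Y_W` with property `Q`, then the image of `W`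
in `S` is contained in the locus. -/
theorem mem_locusPair_of_hom [Q.IsStableUnderBaseChange] {X Y S W XW YW : Scheme.{u}} {u : X ⟶ S} {v : Y ⟶ S}
    {b : W ⟶ S} {pX : XW ⟶ X} {uW : XW ⟶ W} {pY : YW ⟶ Y} {vW : YW ⟶ W}
    (hX : IsPullback pX uW u b) (hY : IsPullback pY vW v b) (g : XW ⟶ YW) (hg : g ≫ vW = uW) (hQ : Q g)
    (w : W) : b w ∈ ConsPropPair.locusPair (Rel Q) u v := by
  exact rel_of_nonempty hX hY (isPullback_fiber u (b w)) (isPullback_fiber v (b w)) g hg hQ
    (T₂ := Spec (W.residueField w)) (W.fromSpecResidueField w) (Spec.map (b.residueFieldMap w))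
    (b.SpecMap_residueFieldMap_fromSpecResidueField w).symm

section FG

open Etcore.FGLim Ega43.LimitDescend

variable (A K : Type u) [CommRing A] [CommRing K] [Algebra A K]

/-- The diagram of the spectra of the finitely generated `A`-subalgebras of `K`. -/
noncomputable abbrev specSys : (FGSub A K)ᵒᵖ ⥤ Scheme.{u} := (fgSys A K).op ⋙ Scheme.Spec

/-- `Spec K` as a cone. -/
noncomputable abbrev specCone : Cone (specSys A K) := Scheme.Spec.mapCone (fgCocone A K).op

/-- `Spec K` is the limit. -/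
noncomputable def isLimitSpecCone : IsLimit (specCone A K) :=
  isLimitOfPreserves Scheme.Spec (isColimitFG A K).op

instance (i : (FGSub A K)ᵒᵖ) : CompactSpace ((specSys A K).obj i) :=
  inferInstanceAs (CompactSpace (Spec (CommRingCat.of i.unop.1)))

instance (i : (FGSub A K)ᵒᵖ) : QuasiSeparatedSpace ((specSys A K).obj i) :=
  inferInstanceAs (QuasiSeparatedSpace (Spec (CommRingCat.of i.unop.1)))

instance {i j : (FGSub A K)ᵒᵖ} (f : i ⟶ j) : IsAffineHom ((specSys A K).map f) :=
  inferInstanceAs (IsAffineHom (Spec.map ((fgSys A K).map f.unop)))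

/-- The structure morphism of a stage. -/
noncomputable abbrev specT (i : (FGSub A K)ᵒᵖ) : (specSys A K).obj i ⟶ Spec (CommRingCat.of A) :=
  Spec.map (CommRingCat.ofHom (algebraMap A i.unop.1))

lemma specT_map {i j : (FGSub A K)ᵒᵖ} (f : i ⟶ j) : (specSys A K).map f ≫ specT A K j = specT A K i := by
  exact (Spec.map_comp (CommRingCat.ofHom (algebraMap A j.unop.1))
    (CommRingCat.ofHom (Subalgebra.inclusion f.unop.le).toRingHom)).symm

lemma specT_π (i : (FGSub A K)ᵒᵖ) : (specCone A K).π.app i ≫ specT A K i =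
    Spec.map (CommRingCat.ofHom (algebraMap A K)) := by
  exact (Spec.map_comp (CommRingCat.ofHom (algebraMap A i.unop.1))
    (CommRingCat.ofHom i.unop.1.val.toRingHom)).symm

instance [IsNoetherianRing A] (i : (FGSub A K)ᵒᵖ) : LocallyOfFinitePresentation (specT A K i) := by
  refine (LocallyOfFinitePresentation.SpecMap_iff (CommRingCat.ofHom (algebraMap A i.unop.1))).2 ?_
  have h1 := (Subalgebra.fg_iff_finiteType _).1 i.unop.2
  have h2 : Algebra.FinitePresentation A i.unop.1 := Algebra.FinitePresentation.of_finiteType.1 h1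
  exact RingHom.finitePresentation_algebraMap.2 h2

end FG

section Core

open Etcore.FGLim Ega43.LimitDescend Ega2.GeoStage

/-- The image of a morphism of finite presentation which meets the generic point contains a nonempty open set. -/
lemma exists_isOpen_subset_range {W B : Scheme.{u}} [IsNoetherian B] [IrreducibleSpace B] (t : W ⟶ B)
    [LocallyOfFinitePresentation t] [QuasiCompact t] (w : W) (hw : t w = genericPoint B) :
    ∃ V : Set B, IsOpen V ∧ V.Nonempty ∧ V ⊆ Set.range t := by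
  have h1 : Topology.IsConstructible (Set.range t) := by
    rw [← Set.image_univ]
    exact t.isConstructible_image Topology.IsConstructible.univ
  have h2 : Dense (Set.range t) := by
    rw [dense_iff_closure_eq, ← Set.univ_subset_iff, ← (genericPoint_spec B).def]
    exact closure_mono (Set.singleton_subset_iff.2 ⟨w, hw⟩)
  exact (S2395.result h1).1 h2

/-- The family clause over an affine base: the spectrum of a ring `K` over the noetherian ring `A`. -/
theorem core_affine [Q.IsStableUnderBaseChange] (hD : DescendsLim Q) {X Y S : Scheme.{u}} (u : X ⟶ S) (v : Y ⟶ S)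
    (A K : Type u) [CommRing A] [IsNoetherianRing A] [CommRing K] [Algebra A K]
    (ι : Spec (CommRingCat.of A) ⟶ S) [LocallyOfFiniteType u] [QuasiCompact u] [LocallyOfFiniteType v]
    [QuasiCompact v] [IrreducibleSpace ↥(Spec (CommRingCat.of A))]
    (x : ↥(Spec (CommRingCat.of K)))
    (hx : Spec.map (CommRingCat.ofHom (algebraMap A K)) x = genericPoint ↥(Spec (CommRingCat.of A)))
    {X' Y' : Scheme.{u}} {gX' : X' ⟶ Spec (CommRingCat.of K)} {gY' : Y' ⟶ Spec (CommRingCat.of K)} {eX : X' ⟶ X}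
    {eY : Y' ⟶ Y} (hX : IsPullback eX gX' u (Spec.map (CommRingCat.ofHom (algebraMap A K)) ≫ ι))
    (hY : IsPullback eY gY' v (Spec.map (CommRingCat.ofHom (algebraMap A K)) ≫ ι)) (g : X' ⟶ Y')
    (hg : g ≫ gY' = gX') (hQ : Q g) :
    ∃ V : Set ↥(Spec (CommRingCat.of A)), IsOpen V ∧ V.Nonempty ∧
      V ⊆ ι ⁻¹' (ConsPropPair.locusPair (Rel Q) u v) := by
  have hQi : Q.RespectsIso := MorphismProperty.IsStableUnderBaseChange.respectsIso
  -- base changes to `Spec A`
  have key : ∀ {Z : Scheme.{u}} (z : Z ⟶ S) [LocallyOfFiniteType z] [QuasiCompact z],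
      LocallyOfFinitePresentation (pullback.snd z ι) ∧ QuasiCompact (pullback.snd z ι) ∧
        QuasiSeparated (pullback.snd z ι) := by
    intro Z z _ _
    have h1 : LocallyOfFiniteType (pullback.snd z ι) := inferInstance
    have h2 : IsLocallyNoetherian (pullback z ι) := LocallyOfFiniteType.isLocallyNoetherian (pullback.snd z ι)
    exact ⟨LocallyOfFinitePresentation.iff_locallyOfFiniteType.2 h1, inferInstance, inferInstance⟩
  obtain ⟨hX1, hX2, hX3⟩ := key u
  obtain ⟨hY1, hY2, hY3⟩ := key v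
  -- the squares over `Spec A`
  have hVX : IsPullback (pullback.lift eX (gX' ≫ Spec.map (CommRingCat.ofHom (algebraMap A K)))
      (by rw [Category.assoc, hX.w])) gX' (pullback.snd u ι) (Spec.map (CommRingCat.ofHom (algebraMap A K))) := by
    refine IsPullback.of_right (h₁₂ := pullback.fst u ι) (v₁₃ := u) (h₂₂ := ι) ?_ (pullback.lift_snd _ _ _)
      (IsPullback.of_hasPullback _ _)
    rw [pullback.lift_fst]
    exact hX
  have hVY : IsPullback (pullback.lift eY (gY' ≫ Spec.map (CommRingCat.ofHom (algebraMap A K)))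
      (by rw [Category.assoc, hY.w])) gY' (pullback.snd v ι) (Spec.map (CommRingCat.ofHom (algebraMap A K))) := by
    refine IsPullback.of_right (h₁₂ := pullback.fst v ι) (v₁₃ := v) (h₂₂ := ι) ?_ (pullback.lift_snd _ _ _)
      (IsPullback.of_hasPullback _ _)
    rw [pullback.lift_fst]
    exact hY
  obtain ⟨j, hj⟩ := exists_hom (specSys A K) (specCone A K) (isLimitSpecCone A K) (specT A K)
    (specT_map A K) (pullback.snd u ι) (pullback.snd v ι) _ (specT_π A K) _ _ hVX _ _ hVY g hg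
  obtain ⟨e', he', hpb⟩ := hj j (𝟙 j)
  have h1 : LocallyOfFinitePresentation (e' ≫ pullback.snd (pullback.snd v ι) (specT A K j)) := by
    rw [he']; infer_instance
  have h2 : QuasiCompact (e' ≫ pullback.snd (pullback.snd v ι) (specT A K j)) := by
    rw [he']; infer_instance
  have h3 : QuasiSeparated (e' ≫ pullback.snd (pullback.snd v ι) (specT A K j)) := by
    rw [he']; infer_instance
  obtain ⟨i, φ, Xi, Yi, fi, gi, pY, pX, hpY, hpX, hQi⟩ := exists_descend_of_descendsLim' hD (specSys A K)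
    (specCone A K) (isLimitSpecCone A K) j e' (pullback.snd (pullback.snd v ι) (specT A K j)) g gY' _ _
    (isPullback_stMap _ _ _ _ _ (specT_π A K) _ _ hVY j) hpb hQ
  have hYW : IsPullback (pY ≫ pullback.fst (pullback.snd v ι) (specT A K j) ≫ pullback.fst v ι) gi v
      ((specSys A K).map φ ≫ specT A K j ≫ ι) :=
    hpY.paste_horiz ((IsPullback.of_hasPullback _ _).paste_horiz (IsPullback.of_hasPullback _ _))
  have hXW : IsPullback (pX ≫ pullback.fst (pullback.snd u ι) (specT A K j) ≫ pullback.fst u ι) (fi ≫ gi) u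
      ((specSys A K).map φ ≫ specT A K j ≫ ι) := by
    have h4 := hpX.paste_vert hpY
    rw [he'] at h4
    exact h4.paste_horiz ((IsPullback.of_hasPullback _ _).paste_horiz (IsPullback.of_hasPullback _ _))
  obtain ⟨V, hV, hVne, hVs⟩ := exists_isOpen_subset_range (specT A K i) ((specCone A K).π.app i x)
    ((congrArg (fun m : Spec (CommRingCat.of K) ⟶ Spec (CommRingCat.of A) => m x) (specT_π A K i)).trans hx)
  refine ⟨V, hV, hVne, fun y hy => ?_⟩
  obtain ⟨w, rfl⟩ := hVs hy
  have h5 := mem_locusPair_of_hom hXW hYW fi rfl hQi w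
  rw [← Category.assoc, specT_map, Scheme.Hom.comp_apply] at h5
  exact h5

/-- The family clause, with the field extension given as the spectrum of a field over `S`. -/
theorem core [Q.IsStableUnderBaseChange] (hD : DescendsLim Q) {X Y S : Scheme.{u}} (u : X ⟶ S) (v : Y ⟶ S)
    [IsIntegral S] [IsNoetherian S] [LocallyOfFiniteType u] [QuasiCompact u] [LocallyOfFiniteType v]
    [QuasiCompact v] (K : Type u) [CommRing K] [IsDomain K] (τ : Spec (CommRingCat.of K) ⟶ S)
    (x : ↥(Spec (CommRingCat.of K))) (hx : τ x = genericPoint S) (hrange : Set.range τ ⊆ {genericPoint S})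
    {X' Y' : Scheme.{u}} {gX' : X' ⟶ Spec (CommRingCat.of K)} {gY' : Y' ⟶ Spec (CommRingCat.of K)} {eX : X' ⟶ X}
    {eY : Y' ⟶ Y} (hX : IsPullback eX gX' u τ) (hY : IsPullback eY gY' v τ) (g : X' ⟶ Y')
    (hg : g ≫ gY' = gX') (hQ : Q g) : (interior (ConsPropPair.locusPair (Rel Q) u v)).Nonempty := by
  obtain ⟨U, hU, hηU, -⟩ := exists_isAffineOpen_mem_and_subset (x := genericPoint S) (U := ⊤) trivial
  have hUne : Nonempty U := ⟨⟨_, hηU⟩⟩
  -- the ring
  have hdomA : IsDomain Γ(S, U) := inferInstance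
  have hnoeA : IsNoetherianRing Γ(S, U) := IsLocallyNoetherian.component_noetherian ⟨U, hU⟩
  let ι : Spec Γ(S, U) ⟶ S := hU.fromSpec
  have hτ : Set.range τ ⊆ Set.range ι := by
    refine hrange.trans ?_
    rw [Set.singleton_subset_iff, show Set.range ι = U from hU.range_fromSpec]
    exact hηU
  let τ' : Spec (CommRingCat.of K) ⟶ Spec Γ(S, U) := IsOpenImmersion.lift ι τ hτ
  have hτ' : τ' ≫ ι = τ := IsOpenImmersion.lift_fac _ _ _
  obtain ⟨φ, hφ⟩ := Spec.map_surjective τ'
  algebraize [φ.hom]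
  have hφ' : Spec.map (CommRingCat.ofHom (algebraMap Γ(S, U) K)) ≫ ι = τ := by
    rw [← hτ', ← hφ]
    rfl
  have hirr : IrreducibleSpace ↥(Spec (CommRingCat.of Γ(S, U))) := inferInstance
  obtain ⟨V, hV, hVne, hVs⟩ := core_affine hD u v Γ(S, U) K ι x (by
      apply ι.isOpenEmbedding.injective
      rw [← Scheme.Hom.comp_apply, hφ', hx]
      exact (genericPoint_eq_of_isOpenImmersion ι).symm) (by rw [hφ']; exact hX) (by rw [hφ']; exact hY) g hg hQ
  refine Set.Nonempty.mono (interior_maximal (t := ι '' V) ?_ ?_) (hVne.image _)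
  · rintro _ ⟨y, hy, rfl⟩
    exact hVs hy
  · exact ι.isOpenEmbedding.isOpenMap V hV

/-- For `Q` stable under base change and descending to a stage along limits: the relation "after some extension of
the base field there is a morphism with property `Q`" is an ind-constructible property of pairs. -/
theorem isIndConsPair_rel [Q.IsStableUnderBaseChange] (hD : DescendsLim Q) :
    ConsPropPair.IsIndConsPair (Rel Q) := by
  refine ⟨isFieldStablePair_rel, ?_⟩
  intro X Y S u v _ _ _ _ _ _ hη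
  obtain ⟨T', X', Y', h, gX', gY', eX, eY, _, _, hX, hY, g, hg, hQ⟩ := hη
  have hX₁ := hX.paste_horiz (isPullback_fiber u (genericPoint S))
  have hY₁ := hY.paste_horiz (isPullback_fiber v (genericPoint S))
  -- replace `T'` by the spectrum of its ring of global sections
  have key : ∀ {Z Z' : Scheme.{u}} {z : Z ⟶ S} {e : Z' ⟶ Z} {z' : Z' ⟶ T'},
      IsPullback e z' z (h ≫ S.fromSpecResidueField (genericPoint S)) →
      IsPullback e (z' ≫ T'.isoSpec.hom) z
        (T'.isoSpec.inv ≫ h ≫ S.fromSpecResidueField (genericPoint S)) := by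
    intro Z Z' z e z' hz
    refine IsPullback.of_iso hz (Iso.refl _) (Iso.refl _) T'.isoSpec (Iso.refl _) ?_ ?_ ?_ ?_ <;> simp
  have hdom : IsDomain Γ(T', ⊤) := inferInstance
  obtain ⟨t⟩ : Nonempty T' := inferInstance
  have hr : ∀ y, (T'.isoSpec.inv ≫ h ≫ S.fromSpecResidueField (genericPoint S)) y = genericPoint S := by
    intro y
    rw [Scheme.Hom.comp_apply, Scheme.Hom.comp_apply, Scheme.fromSpecResidueField_apply]
  exact core hD u v Γ(T', ⊤) _ (T'.isoSpec.hom t) (hr _) (Set.range_subset_iff.2 hr) (key hX₁) (key hY₁) g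
    (by rw [reassoc_of% hg]) hQ

end Core

end K286.ExistsBC
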