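import Groth.Agent.S4787
import Groth.Agent.S15543
import Groth.Agent.Ega43.LimitDescend
import Groth.Agent.Ega4fib.H121.ProConsBasic

/-!
# Ind-constructible subsets of a stage which become everything in the limit

`forall_mem_iff_exists_stage`: for a cofiltered limit `S = lim S_i` with affine transition maps, `S_{i₀}` quasi-compact and
`L₀ ⊆ S_{i₀}` ind-constructible, the preimage of `L₀` in `S` is everything if and only if this is so at some stage.
-/

set_option autoImplicit false
universe u

open CategoryTheory AlgebraicGeometry Topology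

namespace K286.LimitLocus

open Groth.Agent Ega43.LimitDescend

theorem forall_mem_iff_exists_stage {I : Type u} [SmallCategory I] [IsCofiltered I]
    (D : I ⥤ Scheme.{u}) (c : Limits.Cone D) (hc : Limits.IsLimit c)
    [∀ (i j : I) (a : i ⟶ j), IsAffineHom (D.map a)] (i₀ : I) [CompactSpace ↥(D.obj i₀)]
    (L₀ : Set ↥(D.obj i₀)) (hL₀ : ProCons.IsIndConstructible L₀) :
    (∀ s : ↥c.pt, c.π.app i₀ s ∈ L₀) ↔ ∃ (j : I) (φ : j ⟶ i₀), ∀ t : ↥(D.obj j), D.map φ t ∈ L₀ := by
  constructor
  · intro h
    have hpre : ∀ j : Over i₀, ProCons.IsIndConstructible (D.map j.hom ⁻¹' L₀) := fun j =>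
      S15543.result (D.map j.hom) L₀ hL₀
    have hcomp : CompactSpace ↥((Over.forget i₀ ⋙ D).obj (Over.mk (𝟙 i₀))) :=
      inferInstanceAs (CompactSpace ↥(D.obj i₀))
    have haff : ∀ (i j : Over i₀) (f : i ⟶ j), IsAffineHom ((Over.forget i₀ ⋙ D).map f) := fun i j f =>
      inferInstanceAs (IsAffineHom (D.map f.left))
    obtain ⟨j, -, hj⟩ := (S4787.result (Over.forget i₀ ⋙ D) (overCone c i₀) (isLimitOverCone c hc i₀)
      (Over.mk (𝟙 i₀)) (fun _ => Set.univ) (fun j => D.map j.hom ⁻¹' L₀)
      (fun j => Ega4fib.H121.ProConsBasic.isProConstructible_of_isLocallyConstructible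
        IsLocallyConstructible.univ) hpre (fun _ _ _ => Set.subset_univ _) (by
          intro i j φ x hx
          have h1 : D.map φ.left ≫ D.map j.hom = D.map i.hom := by rw [← D.map_comp, Over.w]
          have h2 : ∀ y : ↥(D.obj i.left), D.map j.hom (D.map φ.left y) ∈ L₀ → D.map i.hom y ∈ L₀ := by
            intro y hy
            rw [← h1, Scheme.Hom.comp_apply]
            exact hy
          exact h2 x hx)).1 (by
          intro s _
          refine Set.mem_iUnion.2 ⟨Over.mk (𝟙 i₀), ?_⟩
          change D.map (𝟙 i₀) (c.π.app i₀ s) ∈ L₀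
          rw [D.map_id]
          exact h s)
    exact ⟨j.left, j.hom, fun t => hj j (𝟙 j) (Set.mem_univ t)⟩
  · rintro ⟨j, φ, h⟩ s
    rw [← c.w φ, Scheme.Hom.comp_apply]
    exact h _

end K286.LimitLocus
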