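import Groth.Agent.S2396
import Groth.Agent.S3401
import Groth.Agent.CycA.ClosurePt
import Groth.Agent.Ega4fib.H121.ProConsBasic
import Groth.Agent.Ega4fib.H149.FibreTopLoc

/-!
# Constructibility criteria for subsets of schemes

* `isConstructible_of_forall_integral`: on a noetherian scheme, a set `E` is constructible as soon as for every
  integral closed subscheme `i : Z ⟶ S`, the set `i⁻¹(E)` or its complement has nonempty interior.
* `isIndConstructible_of_forall_integral`: on a locally noetherian scheme, `E` is ind-constructible as soon as for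
  every integral closed subscheme `i : Z ⟶ S` whose generic point lies in `i⁻¹(E)`, `i⁻¹(E)` has nonempty interior.
* `isLocallyConstructible_of_cover`, `isIndConstructible_of_cover`: these properties are local, and it is enough that the
  trace on the members of an affine open cover is a preimage of a constructible (ind-constructible) set.
-/

set_option autoImplicit false
universe u

open CategoryTheory AlgebraicGeometry Topology

namespace K286.NoethCrit

open Groth.Agent

theorem isConstructible_of_forall_integral {S : Scheme.{u}} [IsNoetherian S] (E : Set S)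
    (h : ∀ (Z : Scheme.{u}) (i : Z ⟶ S) [IsClosedImmersion i] [IsIntegral Z],
      (interior (i ⁻¹' E)).Nonempty ∨ (interior (i ⁻¹' E)ᶜ).Nonempty) : IsConstructible E := by
  rw [S2396.result E]
  intro Y hYc hY
  obtain ⟨y, hy⟩ := QuasiSober.sober hY hYc
  obtain ⟨Z, i, _, _, -, hr⟩ := CycA.ClosurePt.exists_closure_subscheme y
  have hr' : Set.range i = Y := hr.trans hy.def
  -- opens of `Z` come from opens of `S`
  have key : ∀ W : Set Z, IsOpen W → W.Nonempty → ∃ U : Set S, IsOpen U ∧ (U ∩ Y).Nonempty ∧ i ⁻¹' U = W := by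
    intro W hW hne
    obtain ⟨U, hU, rfl⟩ := i.isClosedEmbedding.isInducing.isOpen_iff.1 hW
    obtain ⟨z, hz⟩ := hne
    exact ⟨U, hU, ⟨i z, hz, hr' ▸ Set.mem_range_self z⟩, rfl⟩
  rcases h Z i with h1 | h1
  · right
    obtain ⟨U, hU, hne, hUW⟩ := key _ isOpen_interior h1
    refine ⟨U, hU, hne, ?_⟩
    rintro s ⟨hsU, hsY⟩
    rw [← hr'] at hsY
    obtain ⟨z, rfl⟩ := hsY
    have : z ∈ interior (i ⁻¹' E) := by rw [← hUW]; exact hsU
    exact (interior_subset this : z ∈ i ⁻¹' E)
  · left
    obtain ⟨U, hU, hne, hUW⟩ := key _ isOpen_interior h1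
    have hsub : (Subtype.val ⁻¹' E : Set Y) ⊆ (Subtype.val ⁻¹' U : Set Y)ᶜ := by
      rintro ⟨s, hs⟩ hsE hsU
      rw [← hr'] at hs
      obtain ⟨z, rfl⟩ := hs
      have : z ∈ interior (i ⁻¹' E)ᶜ := by rw [← hUW]; exact hsU
      exact interior_subset this hsE
    have hUo : IsOpen (Subtype.val ⁻¹' U : Set Y) := hU.preimage continuous_subtype_val
    have hcl : closure (Subtype.val ⁻¹' E : Set Y) ⊆ (Subtype.val ⁻¹' U : Set Y)ᶜ :=
      closure_minimal hsub hUo.isClosed_compl
    have : PreirreducibleSpace Y := (isPreirreducible_iff_preirreducibleSpace).1 hY.isPreirreducible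
    have hne' : (Subtype.val ⁻¹' U : Set Y).Nonempty := by
      obtain ⟨x, hxU, hxY⟩ := hne
      exact ⟨⟨x, hxY⟩, hxU⟩
    have hd : Dense (Subtype.val ⁻¹' U : Set Y) := hUo.dense hne'
    rw [IsNowhereDense]
    refine Set.eq_empty_of_subset_empty ((interior_mono hcl).trans ?_)
    rw [interior_compl, hd.closure_eq, Set.compl_univ]

theorem isIndConstructible_of_forall_integral {S : Scheme.{u}} [IsLocallyNoetherian S] (E : Set S)
    (h : ∀ (Z : Scheme.{u}) (i : Z ⟶ S) [IsClosedImmersion i] [IsIntegral Z],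
      i (genericPoint Z) ∈ E → (interior (i ⁻¹' E)).Nonempty) : ProCons.IsIndConstructible E := by
  rw [S3401.result S E]
  intro x hx
  obtain ⟨Z, i, _, _, hη, hr⟩ := CycA.ClosurePt.exists_closure_subscheme x
  have h1 := h Z i (by rwa [hη])
  obtain ⟨U, hU, hUW⟩ := i.isClosedEmbedding.isInducing.isOpen_iff.1 (isOpen_interior (s := i ⁻¹' E))
  have hxU : x ∈ U := by
    rw [← hη]
    change genericPoint Z ∈ i ⁻¹' U
    rw [hUW]
    exact (genericPoint_spec Z).mem_open_set_iff isOpen_interior |>.2 (by simpa using h1)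
  refine Filter.mem_of_superset ((hU.preimage continuous_subtype_val).mem_nhds (show x ∈ U from hxU)) ?_
  rintro ⟨s, hs⟩ hsU
  rw [← hr] at hs
  obtain ⟨z, rfl⟩ := hs
  have : z ∈ interior (i ⁻¹' E) := by rw [← hUW]; exact hsU
  exact (interior_subset this : z ∈ i ⁻¹' E)

end K286.NoethCrit
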