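import Groth.Agent.S0590
import Groth.Agent.S0591
import Groth.Agent.S15543
import Groth.Agent.ConsPropPair.K286.NoethCrit

/-!
# Noetherian models of one or two morphisms of finite presentation over a quasi-compact quasi-separated base
-/

set_option autoImplicit false
universe u

open CategoryTheory AlgebraicGeometry Topology

namespace K286.NoethModel

open Groth.Agent

/-- A quasi-compact quasi-separated scheme is a limit of noetherian schemes with affine transition maps. -/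
theorem exists_limit_noetherian (S : Scheme.{u}) [CompactSpace S] [QuasiSeparatedSpace S] :
    ∃ (I : Type u) (_ : Preorder I) (_ : IsDirected I (fun a b => a ≤ b)) (_ : Nonempty I)
      (D : Iᵒᵖ ⥤ Scheme.{u}) (c : Limits.Cone D) (_ : Limits.IsLimit c),
      (∀ (i j : Iᵒᵖ) (f : i ⟶ j), IsAffineHom (D.map f)) ∧ (∀ i, IsNoetherian (D.obj i)) ∧ Nonempty (c.pt ≅ S) := by
  obtain ⟨I, _, _, _, D, c, hc, haff, hD, ⟨e⟩⟩ := S0590.result S
  refine ⟨I, inferInstance, inferInstance, inferInstance, D, c, hc, haff, ?_, ⟨e⟩⟩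
  intro i
  obtain ⟨h5, h6⟩ := hD i
  have : IsNoetherianRing (ULift.{u} ℤ) :=
    isNoetherianRing_of_ringEquiv ℤ ULift.ringEquiv.symm
  have : IsLocallyNoetherian (D.obj i) :=
    LocallyOfFiniteType.isLocallyNoetherian (Limits.IsTerminal.from specULiftZIsTerminal (D.obj i))
  exact { }

/-- Two morphisms of finite presentation over a quasi-compact quasi-separated base are base changes of morphisms of
finite presentation over a noetherian scheme. -/
theorem exists_model_pair {X Y S : Scheme.{u}} [CompactSpace S] [QuasiSeparatedSpace S] (u : X ⟶ S) (v : Y ⟶ S)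
    [LocallyOfFinitePresentation u] [QuasiCompact u] [QuasiSeparated u]
    [LocallyOfFinitePresentation v] [QuasiCompact v] [QuasiSeparated v] :
    ∃ (S₀ X₀ Y₀ : Scheme.{u}) (h : S ⟶ S₀) (u₀ : X₀ ⟶ S₀) (v₀ : Y₀ ⟶ S₀) (a : X ⟶ X₀) (b : Y ⟶ Y₀),
      IsNoetherian S₀ ∧ LocallyOfFinitePresentation u₀ ∧ QuasiCompact u₀ ∧ QuasiSeparated u₀ ∧
      LocallyOfFinitePresentation v₀ ∧ QuasiCompact v₀ ∧ QuasiSeparated v₀ ∧
      IsPullback a u u₀ h ∧ IsPullback b v v₀ h := by
  obtain ⟨I, _, _, _, D, c, hc, haff, hD, ⟨e⟩⟩ := exists_limit_noetherian S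
  obtain ⟨i, Xi, ui, a, h1, h2, h3, h4⟩ := S0591.result D c hc X (u ≫ e.inv)
  obtain ⟨j, Yj, vj, b, h5, h6, h7, h8⟩ := S0591.result D c hc Y (v ≫ e.inv)
  obtain ⟨k, hik, hjk⟩ := directed_of (fun a b : I => a ≤ b) i.unop j.unop
  let φ : Opposite.op k ⟶ i := (homOfLE hik).op
  let ψ : Opposite.op k ⟶ j := (homOfLE hjk).op
  have key : ∀ {Z : Scheme.{u}} (z : Z ⟶ S) {l : Iᵒᵖ} (φ : Opposite.op k ⟶ l) {Zl : Scheme.{u}} (zl : Zl ⟶ D.obj l)
      (a : Z ⟶ Zl), IsPullback a (z ≫ e.inv) zl (c.π.app l) →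
      ∃ a' : Z ⟶ Limits.pullback zl (D.map φ), IsPullback a' z (Limits.pullback.snd zl (D.map φ))
        (e.inv ≫ c.π.app (Opposite.op k)) := by
    intro Z z l φ Zl zl a ha
    have hw : a ≫ zl = (z ≫ e.inv ≫ c.π.app (Opposite.op k)) ≫ D.map φ := by
      rw [ha.w, Category.assoc, Category.assoc, Category.assoc, c.w]
    refine ⟨Limits.pullback.lift a (z ≫ e.inv ≫ c.π.app (Opposite.op k)) hw, ?_⟩
    refine IsPullback.of_right (h₁₂ := Limits.pullback.fst zl (D.map φ)) (v₁₃ := zl) (h₂₂ := D.map φ) ?_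
      (Limits.pullback.lift_snd _ _ _) (IsPullback.of_hasPullback _ _)
    rw [Limits.pullback.lift_fst, Category.assoc, c.w]
    refine IsPullback.of_iso ha (Iso.refl _) (Iso.refl _) e (Iso.refl _) ?_ ?_ ?_ ?_ <;> simp
  obtain ⟨a', ha'⟩ := key u φ ui a h4
  obtain ⟨b', hb'⟩ := key v ψ vj b h8
  exact ⟨D.obj (Opposite.op k), _, _, e.inv ≫ c.π.app (Opposite.op k), _, _, a', b', hD _, inferInstance,
    inferInstance, inferInstance, inferInstance, inferInstance, inferInstance, ha', hb'⟩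

theorem isLocallyConstructible_of_models {S : Scheme.{u}} (E : Set S)
    (h : ∀ U : S.Opens, IsAffineOpen U → ∃ (S₀ : Scheme.{u}) (g : (U : Scheme.{u}) ⟶ S₀) (E₀ : Set S₀),
      IsLocallyConstructible E₀ ∧ U.ι ⁻¹' E = g ⁻¹' E₀) : IsLocallyConstructible E := by
  refine IsLocallyConstructible.of_isOpenCover (U := fun U : S.affineOpens => U.1)
    (AlgebraicGeometry.iSup_affineOpens_eq_top S) ?_
  intro U
  obtain ⟨S₀, g, E₀, hE₀, hUE⟩ := h U.1 U.2
  have h1 := Ega4fib.H149.FibreTopLoc.isLocallyConstructible_preimage g hE₀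
  rw [← hUE] at h1
  exact h1

theorem isIndConstructible_of_models {S : Scheme.{u}} (E : Set S)
    (h : ∀ U : S.Opens, IsAffineOpen U → ∃ (S₀ : Scheme.{u}) (g : (U : Scheme.{u}) ⟶ S₀) (E₀ : Set S₀),
      ProCons.IsIndConstructible E₀ ∧ U.ι ⁻¹' E = g ⁻¹' E₀) : ProCons.IsIndConstructible E := by
  refine Ega4fib.H121.ProConsBasic.isIndConstructible_of_cover fun y => ?_
  obtain ⟨U, hU, hyU, -⟩ := exists_isAffineOpen_mem_and_subset (x := y) (U := ⊤) trivial
  obtain ⟨S₀, g, E₀, hE₀, hUE⟩ := h U hU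
  refine ⟨(U : Scheme.{u}), inferInstance, U.ι, U.ι.isOpenEmbedding, by simpa using hyU, ?_⟩
  rw [hUE]
  exact S15543.result g E₀ hE₀

end K286.NoethModel
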