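import Groth.Prelude.Def_W4ega4s0809p4Pair
import Groth.Agent.ConsPropPair.K286.NoethModel

/-!
# The locus of an (ind-)constructible property of pairs
-/

set_option autoImplicit false
universe u

open CategoryTheory AlgebraicGeometry Topology

namespace K286.LocusPair

open Groth.Agent NoethModel NoethCrit

/-- The fibre of a base change is the base change of the fibre. -/
lemma exists_isPullback_fiber {X S X' S' : Scheme.{u}} {u : X ⟶ S} {u' : X' ⟶ S'} {a : X' ⟶ X} {h : S' ⟶ S}
    (hX : IsPullback a u' u h) (s' : S') : ∃ e : u'.fiber s' ⟶ u.fiber (h s'),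
      IsPullback e (u'.fiberToSpecResidueField s') (u.fiberToSpecResidueField (h s'))
        (Spec.map (h.residueFieldMap s')) := by
  have h1 : IsPullback (u'.fiberι s') (u'.fiberToSpecResidueField s') u' (S'.fromSpecResidueField s') :=
    IsPullback.of_hasPullback _ _
  have h2 : IsPullback (u.fiberι (h s')) (u.fiberToSpecResidueField (h s')) u (S.fromSpecResidueField (h s')) :=
    IsPullback.of_hasPullback _ _
  have h3 := h1.paste_horiz hX
  have hw : (u'.fiberι s' ≫ a) ≫ u = (u'.fiberToSpecResidueField s' ≫ Spec.map (h.residueFieldMap s')) ≫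
      S.fromSpecResidueField (h s') := by
    rw [h3.w, Category.assoc, h.SpecMap_residueFieldMap_fromSpecResidueField]
  refine ⟨h2.lift _ _ hw, ?_⟩
  refine IsPullback.of_right (h₁₂ := u.fiberι (h s')) (v₁₃ := u) (h₂₂ := S.fromSpecResidueField (h s')) ?_
    (h2.lift_snd _ _ _) h2
  rw [h2.lift_fst, h.SpecMap_residueFieldMap_fromSpecResidueField]
  exact h3

instance {X : Scheme.{u}} (x : X) : Subsingleton ↥(Spec (X.residueField x)) :=
  inferInstanceAs (Subsingleton (PrimeSpectrum (X.residueField x)))

variable {P : ∀ ⦃X Y T : Scheme.{u}⦄, (X ⟶ T) → (Y ⟶ T) → Prop}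

/-- The locus of a field stable relation is compatible with base change. -/
theorem locusPair_eq_preimage (hP : ConsPropPair.IsFieldStablePair P) {X Y S X' Y' S' : Scheme.{u}}
    {u : X ⟶ S} {v : Y ⟶ S} {u' : X' ⟶ S'} {v' : Y' ⟶ S'} {a : X' ⟶ X} {b : Y' ⟶ Y} {h : S' ⟶ S}
    [LocallyOfFiniteType u] [QuasiCompact u] [LocallyOfFiniteType v] [QuasiCompact v]
    (hX : IsPullback a u' u h) (hY : IsPullback b v' v h) :
    ConsPropPair.locusPair P u' v' = h ⁻¹' ConsPropPair.locusPair P u v := by
  ext s'
  obtain ⟨e, he⟩ := exists_isPullback_fiber hX s'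
  obtain ⟨e', he'⟩ := exists_isPullback_fiber hY s'
  have h1 : LocallyOfFiniteType (u.fiberToSpecResidueField (h s')) :=
    MorphismProperty.pullback_snd _ _ inferInstance
  have h2 : LocallyOfFiniteType (v.fiberToSpecResidueField (h s')) :=
    MorphismProperty.pullback_snd _ _ inferInstance
  have h3 : QuasiCompact (u.fiberToSpecResidueField (h s')) :=
    MorphismProperty.pullback_snd _ _ inferInstance
  have h4 : QuasiCompact (v.fiberToSpecResidueField (h s')) :=
    MorphismProperty.pullback_snd _ _ inferInstance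
  exact (hP _ _ _ _ e e' _ he he').symm

/-- Over a noetherian scheme the locus of a constructible property is constructible. -/
theorem isConstructible_noeth (hP : ConsPropPair.IsConsPair P) {X Y S : Scheme.{u}} [IsNoetherian S]
    (u : X ⟶ S) (v : Y ⟶ S) [LocallyOfFiniteType u] [QuasiCompact u] [LocallyOfFiniteType v] [QuasiCompact v] :
    IsConstructible (ConsPropPair.locusPair P u v) := by
  refine isConstructible_of_forall_integral _ fun Z i _ _ => ?_
  have : IsNoetherian Z := { 
    toIsLocallyNoetherian := LocallyOfFiniteType.isLocallyNoetherian i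
    toCompactSpace := QuasiCompact.compactSpace_of_compactSpace i }
  rw [← locusPair_eq_preimage hP.1 (IsPullback.of_hasPullback u i) (IsPullback.of_hasPullback v i)]
  exact hP.2 _ _

/-- Over a noetherian scheme the locus of an ind-constructible property is ind-constructible. -/
theorem isIndConstructible_noeth (hP : ConsPropPair.IsIndConsPair P) {X Y S : Scheme.{u}} [IsNoetherian S]
    (u : X ⟶ S) (v : Y ⟶ S) [LocallyOfFiniteType u] [QuasiCompact u] [LocallyOfFiniteType v] [QuasiCompact v] :
    ProCons.IsIndConstructible (ConsPropPair.locusPair P u v) := by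
  refine isIndConstructible_of_forall_integral _ fun Z i _ _ hη => ?_
  have : IsNoetherian Z := { 
    toIsLocallyNoetherian := LocallyOfFiniteType.isLocallyNoetherian i
    toCompactSpace := QuasiCompact.compactSpace_of_compactSpace i }
  rw [← locusPair_eq_preimage hP.1 (IsPullback.of_hasPullback u i) (IsPullback.of_hasPullback v i)]
  refine hP.2 _ _ ?_
  rw [locusPair_eq_preimage hP.1 (IsPullback.of_hasPullback u i) (IsPullback.of_hasPullback v i)]
  exact hη

/-- Every affine open of the base has a noetherian model for the pair. -/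
lemma exists_model (hP : ConsPropPair.IsFieldStablePair P) {X Y S : Scheme.{u}} (u : X ⟶ S) (v : Y ⟶ S)
    [LocallyOfFinitePresentation u] [QuasiCompact u] [QuasiSeparated u]
    [LocallyOfFinitePresentation v] [QuasiCompact v] [QuasiSeparated v] (U : S.Opens) (hU : IsAffineOpen U) :
    ∃ (S₀ X₀ Y₀ : Scheme.{u}) (h : (U : Scheme.{u}) ⟶ S₀) (u₀ : X₀ ⟶ S₀) (v₀ : Y₀ ⟶ S₀), IsNoetherian S₀ ∧
      LocallyOfFiniteType u₀ ∧ QuasiCompact u₀ ∧ LocallyOfFiniteType v₀ ∧ QuasiCompact v₀ ∧
      U.ι ⁻¹' ConsPropPair.locusPair P u v = h ⁻¹' ConsPropPair.locusPair P u₀ v₀ := by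
  have : IsAffine (U : Scheme.{u}) := hU
  obtain ⟨S₀, X₀, Y₀, h, u₀, v₀, a, b, h1, h2, h3, h4, h5, h6, h7, h8, h9⟩ :=
    exists_model_pair (Limits.pullback.snd u U.ι) (Limits.pullback.snd v U.ι)
  refine ⟨S₀, X₀, Y₀, h, u₀, v₀, h1, inferInstance, h3, inferInstance, h6, ?_⟩
  rw [← locusPair_eq_preimage hP (IsPullback.of_hasPullback u U.ι) (IsPullback.of_hasPullback v U.ι),
    ← locusPair_eq_preimage hP h8 h9]

theorem isLocallyConstructible_locusPair (hP : ConsPropPair.IsConsPair P) {X Y S : Scheme.{u}} (u : X ⟶ S)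
    (v : Y ⟶ S) [LocallyOfFinitePresentation u] [QuasiCompact u] [QuasiSeparated u]
    [LocallyOfFinitePresentation v] [QuasiCompact v] [QuasiSeparated v] :
    IsLocallyConstructible (ConsPropPair.locusPair P u v) := by
  refine isLocallyConstructible_of_models _ fun U hU => ?_
  obtain ⟨S₀, X₀, Y₀, h, u₀, v₀, h1, h2, h3, h4, h5, h6⟩ := exists_model hP.1 u v U hU
  exact ⟨S₀, h, _, (isConstructible_noeth hP u₀ v₀).isLocallyConstructible, h6⟩

theorem isIndConstructible_locusPair (hP : ConsPropPair.IsIndConsPair P) {X Y S : Scheme.{u}} (u : X ⟶ S)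
    (v : Y ⟶ S) [LocallyOfFinitePresentation u] [QuasiCompact u] [QuasiSeparated u]
    [LocallyOfFinitePresentation v] [QuasiCompact v] [QuasiSeparated v] :
    ProCons.IsIndConstructible (ConsPropPair.locusPair P u v) := by
  refine isIndConstructible_of_models _ fun U hU => ?_
  obtain ⟨S₀, X₀, Y₀, h, u₀, v₀, h1, h2, h3, h4, h5, h6⟩ := exists_model hP.1 u v U hU
  exact ⟨S₀, h, _, isIndConstructible_noeth hP u₀ v₀, h6⟩

end K286.LocusPair
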