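import Groth.Agent.Ega43.QuasiAffineLocal
import Groth.Agent.Ega2.QuasiAffine

/-!
# Quasi-affine morphisms are stable under base change, as a `MorphismProperty`
-/

set_option autoImplicit false
universe u

open CategoryTheory CategoryTheory.Limits AlgebraicGeometry

namespace K286.QAff

open Groth.Agent

theorem isStableUnderBaseChange_isQuasiAffine :
    MorphismProperty.IsStableUnderBaseChange (fun (X Y : Scheme.{u}) (f : X ⟶ Y) ↦ Mor2.IsQuasiAffine f) := by
  have := Ega43.QuasiAffineLocal.respectsIso.{u}
  constructor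
  intro X Y Y' S f g f' g' sq hg
  rw [← sq.isoPullback_hom_snd]
  exact (MorphismProperty.cancel_left_of_respectsIso
    (fun (X Y : Scheme.{u}) (f : X ⟶ Y) ↦ Mor2.IsQuasiAffine f) _ _).2 (Ega2.QuasiAffine.qaff_baseChange g hg f)

end K286.QAff
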